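import Groth.Agent.LocDuality.Propagate
import Groth.Agent.CatenaryLib.Basic
import Groth.Agent.FlatLocalDepth.Basic
import Groth.Agent.FlatLocalDepth.Comp
import Groth.Agent.RegLocus.Fiber

/-!
# Cohen–Macaulay rings are universally catenary
-/

set_option autoImplicit false
universe u

open scoped TensorProduct

namespace Groth.Agent.LeadExc

theorem height_covBy {R : Type u} [CommRing R] (hR : LocCoh.IsCohenMacaulayRing R)
    {p q : PrimeSpectrum R} (h : p ⋖ q) : q.asIdeal.height = p.asIdeal.height + 1 := by
  have hle : p.asIdeal ≤ q.asIdeal := h.1.le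
  rw [LocDuality.height_eq_add hR p.asIdeal q.asIdeal hle]
  congr 1
  have := LocCohBasic.isPrime_map_mk (p := p.asIdeal) (t := q.asIdeal) hle
  refine le_antisymm ?_ (Order.one_le_iff_pos.2 (pos_iff_ne_zero.2 fun h0 => ?_))
  · rw [show (1 : ℕ∞) = ((1 : ℕ) : ℕ∞) from rfl, Ideal.height_le_iff]
    intro Q hQ hQlt
    have hQ0 : Q = ⊥ := by
      by_contra hne
      refine h.2 (c := ⟨Q.comap (Ideal.Quotient.mk p.asIdeal), inferInstance⟩) ?_ ?_
      · show p.asIdeal < Q.comap (Ideal.Quotient.mk p.asIdeal)
        refine lt_of_le_of_ne ((Ideal.mk_ker (I := p.asIdeal)).symm.le.trans (Ideal.comap_mono bot_le)) fun he => hne ?_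
        rw [← Ideal.map_comap_of_surjective _ Ideal.Quotient.mk_surjective Q, ← he, Ideal.map_quotient_self]
      · show Q.comap (Ideal.Quotient.mk p.asIdeal) < q.asIdeal
        have h1 := Ideal.comap_mono (f := Ideal.Quotient.mk p.asIdeal) hQlt.le
        rw [LocCohBasic.comap_map_mk hle] at h1
        refine lt_of_le_of_ne h1 fun he => hQlt.ne ?_
        rw [← Ideal.map_comap_of_surjective _ Ideal.Quotient.mk_surjective Q, he]
    subst hQ0
    rw [Ideal.height_bot]
    norm_num
  · have h1 := Ideal.height_add_one_le_of_lt_of_isPrime (I := (⊥ : Ideal (R ⧸ p.asIdeal)))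
      (J := q.asIdeal.map (Ideal.Quotient.mk p.asIdeal)) (bot_lt_iff_ne_bot.2 fun hb => ?_)
    · rw [h0, Ideal.height_bot, zero_add] at h1
      exact one_ne_zero (le_zero_iff.1 h1)
    · refine h.1.ne (PrimeSpectrum.ext (le_antisymm hle ?_))
      rw [← Ideal.mk_ker (I := p.asIdeal)]
      exact Ideal.map_eq_bot_iff_le_ker _ |>.1 hb

theorem length_le {R : Type u} [CommRing R] (s : LTSeries (PrimeSpectrum R)) :
    s.head.asIdeal.height + s.length ≤ s.last.asIdeal.height := by
  have key : ∀ (k : ℕ) (hk : k < s.length + 1),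
      s.head.asIdeal.height + k ≤ (s ⟨k, hk⟩).asIdeal.height := by
    intro k
    induction k with
    | zero => intro hk; simp [RelSeries.head]
    | succ k ih =>
      intro hk
      have hlt : (s ⟨k, by omega⟩).asIdeal < (s ⟨k + 1, hk⟩).asIdeal := s.step ⟨k, by omega⟩
      push_cast
      rw [← add_assoc]
      exact (add_le_add (ih (by omega)) le_rfl).trans (Ideal.height_add_one_le_of_lt_of_isPrime hlt)
  exact key s.length (by omega)

theorem length_eq {R : Type u} [CommRing R] (hR : LocCoh.IsCohenMacaulayRing R)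
    (s : LTSeries (PrimeSpectrum R))
    (hs : ∀ i : Fin s.length, s (Fin.castSucc i) ⋖ s (Fin.succ i)) :
    s.head.asIdeal.height + s.length = s.last.asIdeal.height := by
  have key : ∀ (k : ℕ) (hk : k < s.length + 1),
      s.head.asIdeal.height + k = (s ⟨k, hk⟩).asIdeal.height := by
    intro k
    induction k with
    | zero => intro hk; simp [RelSeries.head]
    | succ k ih =>
      intro hk
      have hlt : s ⟨k, by omega⟩ ⋖ s ⟨k + 1, hk⟩ := hs ⟨k, by omega⟩
      push_cast
      rw [← add_assoc, ih (by omega), height_covBy hR hlt]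
  exact key s.length (by omega)

theorem isCatenary_of_isCohenMacaulayRing {R : Type u} [CommRing R]
    (hR : LocCoh.IsCohenMacaulayRing R) : CAlg.IsCatenary R := by
  have := hR
  refine ⟨fun p q _ => ?_, fun s t hh hl hs ht => ?_⟩
  · obtain ⟨n, hn⟩ := ENat.ne_top_iff_exists.1 (Ideal.height_ne_top_of_isPrime (I := q.asIdeal))
    refine ⟨n, fun s _ hs => ?_⟩
    have := (le_add_self).trans (length_le s)
    rw [hs, ← hn] at this
    exact_mod_cast this
  · have h1 := length_eq hR s hs
    have h2 := length_eq hR t ht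
    rw [hh, hl, ← h2] at h1
    exact Nat.cast_inj.1 ((WithTop.add_left_inj (Ideal.height_ne_top_of_isPrime (I := t.head.asIdeal))).1 h1)

theorem isCohenMacaulayRing_mvPolynomial {R : Type u} [CommRing R]
    (hR : LocCoh.IsCohenMacaulayRing R) (n : ℕ) :
    LocCoh.IsCohenMacaulayRing (MvPolynomial (Fin n) R) := by
  have := hR
  refine { isCohenMacaulayLocalRing_localization := fun Q _ => ?_ }
  let P := MvPolynomial (Fin n) R
  let p := Q.comap (algebraMap R P)
  have : Q.LiesOver p := ⟨rfl⟩
  let _ := Localization.AtPrime.algebraOfLiesOver p Q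
  have hm : (IsLocalRing.maximalIdeal (Localization.AtPrime p)).map
      (algebraMap (Localization.AtPrime p) (Localization.AtPrime Q)) =
        p.map (algebraMap R (Localization.AtPrime Q)) := by
    rw [← Localization.AtPrime.map_eq_maximalIdeal, Ideal.map_map,
      ← IsScalarTower.algebraMap_eq R (Localization.AtPrime p) (Localization.AtPrime Q)]
  refine (FlatLocalDepth.isCohenMacaulayLocalRing_iff (Localization.AtPrime p) (Localization.AtPrime Q)).2
    ⟨hR.isCohenMacaulayLocalRing_localization p, ?_⟩
  obtain ⟨P', hP', ⟨e⟩⟩ := RegLocus.exists_fibre_localization R P Q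
  have : IsRegularRing (p.Fiber P) :=
    IsRegularRing.of_ringEquiv (R := MvPolynomial (Fin n) p.ResidueField)
      (MvPolynomial.scalarRTensorAlgEquiv (R := R) (N := p.ResidueField) (σ := Fin n)).symm.toRingEquiv
  have := (LocCohBasic.isCohenMacaulayRing_of_isRegularRing (S := p.Fiber P)).isCohenMacaulayLocalRing_localization P'
  let e' := e.trans (Ideal.quotEquivOfEq hm.symm)
  convert FlatLocalDepth.isCohenMacaulayLocalRing_of_ringEquiv (A := Localization.AtPrime P') e' using 1

theorem isUniversallyCatenary_of_isCohenMacaulayRing {R : Type u} [CommRing R]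
    (hR : LocCoh.IsCohenMacaulayRing R) : CAlg.IsUniversallyCatenary R := by
  have := hR
  refine ⟨inferInstance, fun S _ _ hS => ?_⟩
  obtain ⟨n, f, hf⟩ := Algebra.FiniteType.iff_quotient_mvPolynomial''.1 hS
  exact CatenaryLib.isCatenary_of_surjective f.toRingHom hf
    (isCatenary_of_isCohenMacaulayRing (isCohenMacaulayRing_mvPolynomial hR n))

theorem isUniversallyCatenary_of_surjective {A B : Type u} [CommRing A] [CommRing B] (φ : A →+* B)
    (hφ : Function.Surjective φ) (hA : CAlg.IsUniversallyCatenary A) : CAlg.IsUniversallyCatenary B := by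
  have := hA.1
  refine ⟨isNoetherianRing_of_surjective A B φ hφ, fun S _ _ hS => ?_⟩
  let _ := φ.toAlgebra
  let _ : Algebra A S := ((algebraMap B S).comp φ).toAlgebra
  have : IsScalarTower A B S := IsScalarTower.of_algebraMap_eq fun _ => rfl
  have hAB : Algebra.FiniteType A B := Algebra.FiniteType.of_surjective (Algebra.ofId A B) hφ
  exact hA.2 S (Algebra.FiniteType.trans hAB hS)

end Groth.Agent.LeadExc
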